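import Cfsg.Agent.H41.McLTwo.Pack
import Cfsg.Agent.H359.CT.McLChar
import Cfsg.Agent.H681.DegBasic
import Cfsg.Agent.H933.SubKnown
import Cfsg.Agent.S2073
import Cfsg.Agent.H704.S8.Defs2

/-!
# S4908: the degrees of `McL` and of `Aut McL` (helper235)

* `mem_of_table` : the degrees from a character table (helper447's `Table`);
* `mem_two` : the degrees of a group over a normal subgroup of index two;
* `charDegrees_mcl`, `charDegrees_aut` : the exact sets, from helper359's table and helper41's action of the outer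
  automorphism.
-/

set_option autoImplicit false
set_option maxRecDepth 100000

namespace Cfsg.Agent.H235.S8

open Cfsg Subgroup Cfsg.Agent.Characters.Core Cfsg.Agent.H447.CTab Cfsg.Agent.H41.McLTwo

universe u v

/-- the degrees from a table -/
theorem mem_of_table {G : Type u} [Group G] [Finite G] {k r m n : ℕ} {T : ClassTab G k} {rc : Fin k → Fin r}
    (Θ : Table T rc m n) {d : ℕ} : d ∈ charDegrees G ↔
      (∃ a, (Θ.R a (rc Θ.i0)).toNat = d) ∨ ∃ b, (Θ.P b (rc Θ.i0)).toNat / 2 = d := by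
  classical
  have := finite_irr (G := G)
  have h := Θ.count (fun x => x = d) (fun a => decide ((Θ.R a (rc Θ.i0)).toNat = d))
    (fun b => decide ((Θ.P b (rc Θ.i0)).toNat / 2 = d)) (fun a => by simp) (fun b => by simp)
  have h0 : d ∈ charDegrees G ↔ 0 < Nat.card {χ : IrrCharacter G // charDegree (χ : G → ℂ) = d} := by
    rw [Nat.card_pos_iff]
    constructor
    · rintro ⟨χ, hχ⟩
      exact ⟨⟨⟨χ, hχ⟩⟩, inferInstance⟩
    · rintro ⟨⟨⟨χ, hχ⟩⟩, -⟩
      exact ⟨χ, hχ⟩
  rw [h0, h]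
  constructor
  · intro h1
    by_contra hcon
    push Not at hcon
    have e1 : (Finset.univ.filter fun a => decide ((Θ.R a (rc Θ.i0)).toNat = d) = true) = ∅ := by
      rw [Finset.filter_eq_empty_iff]
      intro a _
      simpa using hcon.1 a
    have e2 : (Finset.univ.filter fun b => decide ((Θ.P b (rc Θ.i0)).toNat / 2 = d) = true) = ∅ := by
      rw [Finset.filter_eq_empty_iff]
      intro b _
      simpa using hcon.2 b
    rw [e1, e2] at h1
    simp at h1
  · rintro (⟨a, ha⟩ | ⟨b, hb⟩)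
    · have : 0 < (Finset.univ.filter fun a => decide ((Θ.R a (rc Θ.i0)).toNat = d) = true).card :=
        Finset.card_pos.2 ⟨a, by simp [ha]⟩
      omega
    · have : 0 < (Finset.univ.filter fun b => decide ((Θ.P b (rc Θ.i0)).toNat / 2 = d) = true).card :=
        Finset.card_pos.2 ⟨b, by simp [hb]⟩
      omega

/-- **The degrees over a normal subgroup of index two.** -/
theorem mem_two {W : Type u} [Group W] [Finite W] {N : Subgroup W} [N.Normal] (hN : N.index = 2) {d : ℕ} :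
    d ∈ charDegrees W ↔ (∃ ψ : IrrCharacter N, Cliff.Inv N ψ ∧ charDegree (ψ : N → ℂ) = d) ∨
      ∃ ψ : IrrCharacter N, ¬ Cliff.Inv N ψ ∧ 2 * charDegree (ψ : N → ℂ) = d := by
  classical
  have := Fintype.ofFinite W
  have := Fintype.ofFinite N
  have := finite_irr (G := W)
  have := Fintype.ofFinite (IrrCharacter W)
  constructor
  · rintro ⟨χ, rfl⟩
    by_cases hv : Cliff.Van N χ
    · obtain ⟨η, η', -, h1, -, h2, -⟩ := Cliff.two_of_van hN hv
      exact Or.inr ⟨η, h1, (Cliff.charDegree_two η.2 h2).symm⟩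
    · obtain ⟨ψ, h1, h2⟩ := Cliff.restrict_of_not_van hN hv
      exact Or.inl ⟨ψ, h1, (Cliff.charDegree_of (h2 1)).symm⟩
  · rintro (⟨ψ, h1, rfl⟩ | ⟨ψ, h1, rfl⟩)
    · obtain ⟨χ, χ', -, -, -, h2⟩ := Cliff.card_ext hN h1
      exact ⟨χ, Cliff.charDegree_of ((h2 χ).2 (Or.inl rfl) 1)⟩
    · obtain ⟨χ, h2, h3, -⟩ := Cliff.moved hN h1
      obtain ⟨η, η', -, -, -, h4, h5, h6⟩ := Cliff.two_of_van hN h2
      refine ⟨χ, ?_⟩
      rcases (h6 ψ).1 h3 with h7 | h7
      · rw [h7]
        exact Cliff.charDegree_two η.2 h4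
      · rw [h7]
        exact Cliff.charDegree_two η'.2 h5

/-! ### The McLaughlin group -/

open Cfsg.Agent.H359.CT.McL in
/-- the data of `McL` (helper41) -/
noncomputable def mcl {G : Type u} [Group G] [Finite G] (e : G ≃* ↥Cfsg.Agent.McLType.Gens.K0) : McLData G :=
  McLData.mk' e (clT e) (fun _ => rfl) (fun _ => rfl) (tab e) (fun a => (R a 0).toNat) (fun b => (P b 0).toNat / 2)
    (fun _ => rfl) (fun _ => rfl) (by decide +kernel) (by decide +kernel) (by decide +kernel) (by decide +kernel)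
    (by decide +kernel) (by decide +kernel)

/-- the degrees of `McL` -/
def dL : List ℕ := [1, 22, 231, 252, 770, 896, 1750, 3520, 4500, 4752, 5103, 5544, 8019, 8250, 9625, 9856, 10395]

/-- the degrees of `Aut McL` -/
def dL2 : List ℕ := [1, 22, 231, 252, 896, 1540, 1750, 3520, 4500, 4752, 5103, 5544, 9625, 16038, 16500, 19712, 20790]

open Cfsg.Agent.H359.CT.McL in
theorem listR : ∀ a : Fin 12, (R a 0).toNat = [1, 22, 231, 252, 1750, 3520, 3520, 4500, 4752, 5103, 5544, 9625].getD a 0 := by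
  decide +kernel

open Cfsg.Agent.H359.CT.McL in
theorem listP : ∀ b : Fin 6, (P b 0).toNat / 2 = [770, 896, 8019, 8250, 9856, 10395].getD b 0 := by decide +kernel

theorem dR_iff {d : ℕ} : (∃ a : Fin 12, [1, 22, 231, 252, 1750, 3520, 3520, 4500, 4752, 5103, 5544, 9625].getD a 0 = d) ↔
    d ∈ [1, 22, 231, 252, 1750, 3520, 4500, 4752, 5103, 5544, 9625] := by
  constructor
  · rintro ⟨a, rfl⟩
    revert a
    decide
  · intro h
    fin_cases h
    exacts [⟨0, rfl⟩, ⟨1, rfl⟩, ⟨2, rfl⟩, ⟨3, rfl⟩, ⟨4, rfl⟩, ⟨5, rfl⟩, ⟨7, rfl⟩, ⟨8, rfl⟩, ⟨9, rfl⟩, ⟨10, rfl⟩, ⟨11, rfl⟩]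

open Cfsg.Agent.H359.CT.McL in
/-- **The degrees of `McL`.** -/
theorem mem_mcl {G : Type u} [Group G] [Finite G] (h : Spor.IsoMcL G) {d : ℕ} : d ∈ charDegrees G ↔ d ∈ dL := by
  obtain ⟨e1⟩ := h
  obtain ⟨e2⟩ := iso_K0
  have e := e1.trans e2.symm
  rw [mem_of_table (tab e)]
  change (∃ a : Fin 12, (R a 0).toNat = d) ∨ (∃ b : Fin 6, (P b 0).toNat / 2 = d) ↔ _
  simp only [listR, listP]
  rw [dR_iff]
  constructor
  · rintro (h | ⟨b, rfl⟩)
    · fin_cases h <;> decide
    · revert b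
      decide
  · intro h
    fin_cases h
    exacts [Or.inl (by decide), Or.inl (by decide), Or.inl (by decide), Or.inl (by decide), Or.inr ⟨0, rfl⟩,
      Or.inr ⟨1, rfl⟩, Or.inl (by decide), Or.inl (by decide), Or.inl (by decide), Or.inl (by decide), Or.inl (by decide),
      Or.inl (by decide), Or.inr ⟨2, rfl⟩, Or.inr ⟨3, rfl⟩, Or.inl (by decide), Or.inr ⟨4, rfl⟩, Or.inr ⟨5, rfl⟩]

/-- **The degrees of a group with a normal subgroup `McL` of index two and trivial centralizer.** -/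
theorem mem_mcl_two {H : Type u} [Group H] [Finite H] {S : Subgroup H} [S.Normal] (hT : Spor.IsoMcL S)
    (hN : S.index = 2) (hC : Subgroup.centralizer (S : Set H) = ⊥) {d : ℕ} : d ∈ charDegrees H ↔ d ∈ dL2 := by
  classical
  have hT' := hT
  obtain ⟨e1⟩ := hT'
  obtain ⟨e2⟩ := Cfsg.Agent.H359.CT.McL.iso_K0
  obtain ⟨M, hM1, hM2⟩ : ∃ M : McLData S, (∀ a, M.dR a = (Cfsg.Agent.H359.CT.McL.R a 0).toNat) ∧
      ∀ b, M.dP b = (Cfsg.Agent.H359.CT.McL.P b 0).toNat / 2 := ⟨mcl (e1.trans e2.symm), fun _ => rfl, fun _ => rfl⟩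
  obtain ⟨g, hg⟩ := exists_outer hN
  have hα := not_inner' hC hg
  obtain ⟨f, h1, h2, h3⟩ := exists_list M.Θ ((MulAut.conjNormal g : MulAut S) : S ≃* S) (q := 11) (by norm_num)
    (M.hA hT hα) (M.hB hT hα) (fun b => !(11 ∣ M.dP b : Bool))
    (fun b hb => by
      rw [fac11 hT, pow_one, M.hdP]
      exact dvd_of_false hb) (card_inv_eq M hC hT hg)
  have h1' : ∀ a, charDegree (f (Sum.inl a) : S → ℂ) =
      [1, 22, 231, 252, 1750, 3520, 3520, 4500, 4752, 5103, 5544, 9625].getD a 0 := fun a => by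
    rw [h1, M.hdR, hM1, listR]
  have h2' : ∀ p, charDegree (f (Sum.inr p) : S → ℂ) = [770, 896, 8019, 8250, 9856, 10395].getD p.1 0 := fun p => by
    rw [h2, M.hdP, hM2, listP]
  have h3a : ∀ a, Cliff.Inv S (f (Sum.inl a)) := fun a => (inv_iff' hN hg).2 ((h3 _).2 rfl)
  have h3b : ∀ b : Fin 6, ∀ s, Cliff.Inv S (f (Sum.inr (b, s))) ↔ b = 1 := fun b s => by
    rw [inv_iff' hN hg]
    refine (h3 (Sum.inr (b, s))).trans ?_
    show (!(11 ∣ M.dP b : Bool)) = true ↔ b = 1
    rw [hM2, listP]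
    revert b
    decide
  rw [mem_two hN]
  constructor
  · rintro (⟨ψ, hψ, rfl⟩ | ⟨ψ, hψ, rfl⟩)
    · obtain ⟨x, rfl⟩ := f.surjective ψ
      rcases x with a | ⟨b, s⟩
      · rw [h1']
        clear hψ
        revert a
        decide
      · rw [h2', (h3b b s).1 hψ]
        show 896 ∈ dL2
        decide
    · obtain ⟨x, rfl⟩ := f.surjective ψ
      rcases x with a | ⟨b, s⟩
      · exact absurd (h3a a) hψ
      · rw [h3b] at hψ
        rw [h2']
        show 2 * [770, 896, 8019, 8250, 9856, 10395].getD (b : ℕ) 0 ∈ dL2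
        revert b
        decide
  · intro hd
    have k1 : ∀ a : Fin 12, (∃ ψ : IrrCharacter S, Cliff.Inv S ψ ∧ charDegree (ψ : S → ℂ) =
        [1, 22, 231, 252, 1750, 3520, 3520, 4500, 4752, 5103, 5544, 9625].getD a 0) := fun a => ⟨_, h3a a, h1' a⟩
    have k2 : ∀ b : Fin 6, b ≠ 1 → ∃ ψ : IrrCharacter S, ¬ Cliff.Inv S ψ ∧ 2 * charDegree (ψ : S → ℂ) =
        2 * [770, 896, 8019, 8250, 9856, 10395].getD b 0 := fun b hb =>
      ⟨f (Sum.inr (b, true)), by rw [h3b]; exact hb, by rw [h2']⟩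
    have k3 : ∃ ψ : IrrCharacter S, Cliff.Inv S ψ ∧ charDegree (ψ : S → ℂ) = 896 :=
      ⟨f (Sum.inr (1, true)), (h3b 1 true).2 rfl, h2' _⟩
    fin_cases hd
    exacts [Or.inl (k1 0), Or.inl (k1 1), Or.inl (k1 2), Or.inl (k1 3), Or.inl k3, Or.inr (k2 0 (by decide)),
      Or.inl (k1 4), Or.inl (k1 5), Or.inl (k1 7), Or.inl (k1 8), Or.inl (k1 9), Or.inl (k1 10), Or.inl (k1 11),
      Or.inr (k2 2 (by decide)), Or.inr (k2 3 (by decide)), Or.inr (k2 4 (by decide)), Or.inr (k2 5 (by decide))]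

theorem index_congr {X : Type u} {Y : Type v} [Group X] [Group Y] (e : X ≃* Y) :
    (MulAut.conj : Y →* MulAut Y).range.index = (MulAut.conj : X →* MulAut X).range.index := by
  have h1 : ((MulAut.conj : X →* MulAut X).range).map (MulAut.congr e).toMonoidHom =
      (MulAut.conj : Y →* MulAut Y).range := by
    ext f
    constructor
    · rintro ⟨_, ⟨s, rfl⟩, rfl⟩
      refine ⟨e s, ?_⟩
      ext t
      show e s * t * (e s)⁻¹ = e (s * e.symm t * s⁻¹)
      rw [map_mul, map_mul, map_inv, e.apply_symm_apply]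
    · rintro ⟨s, rfl⟩
      refine ⟨MulAut.conj (e.symm s), ⟨e.symm s, rfl⟩, ?_⟩
      ext t
      show e (e.symm s * e.symm t * (e.symm s)⁻¹) = s * t * s⁻¹
      rw [map_mul, map_mul, map_inv, e.apply_symm_apply, e.apply_symm_apply]
  rw [← h1]
  exact Subgroup.index_map_of_bijective (MulAut.congr e).bijective _

theorem normal_inn {X : Type u} [Group X] : ((MulAut.conj : X →* MulAut X).range).Normal := by
  refine ⟨?_⟩
  rintro _ ⟨s, rfl⟩ f
  refine ⟨f s, ?_⟩
  ext t
  show f s * t * (f s)⁻¹ = f (s * f⁻¹ t * s⁻¹)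
  rw [map_mul, map_mul, map_inv, show f (f⁻¹ t) = t from f.apply_symm_apply t]

/-- **The degrees of `Aut McL`.** -/
theorem mem_aut_mcl {X : Type u} [Group X] (h : Spor.IsoMcL X) {d : ℕ} : d ∈ charDegrees (MulAut X) ↔ d ∈ dL2 := by
  obtain ⟨hX, hsimple, hcard⟩ : Finite X ∧ IsSimpleGroup X ∧ Nat.card X = 898128000 := by
    obtain ⟨e⟩ := h
    obtain ⟨hfin, hs, hcard, -⟩ := TypeM.FactsMcL.exists_mt_mcl
    have : Nontrivial X := e.toEquiv.nontrivial
    exact ⟨Finite.of_equiv _ e.symm.toEquiv,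
      IsSimpleGroup.isSimpleGroup_of_surjective e.symm.toMonoidHom e.symm.surjective, by
        rw [Nat.card_congr e.toEquiv, hcard]⟩
  have hna : ¬ IsMulCommutative X := by
    intro hc
    let _ : CommGroup X := { (inferInstance : Group X) with mul_comm := hc.is_comm.comm }
    have := IsSimpleGroup.prime_card (α := X)
    rw [hcard] at this
    norm_num at this
  have hc : center X = ⊥ := H933.SubKnown.center_eq_bot hsimple hna
  have e1 := MonoidHom.ofInjective (H933.SubKnown.conj_injective hc)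
  have hidx : (MulAut.conj : X →* MulAut X).range.index = 2 := by
    obtain ⟨e⟩ := h
    rw [← index_congr e]
    exact S2073.result
  have := normal_inn (X := X)
  have hC := H933.SubKnown.centralizer_inn hc
  obtain ⟨e⟩ := h
  exact mem_mcl_two (S := (MulAut.conj : X →* MulAut X).range) ⟨e1.symm.trans e⟩ hidx hC

/-- **OUT for `McL`.** -/
theorem out_mcl {X : Type u} [Group X] (h : Spor.IsoMcL X) : H704.S8.OutRow 2 X := by
  have hX : Finite X := (TypeM.FactsMcL.facts h).1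
  refine ⟨?_, fun _ => ⟨fun hs => ?_, fun hs => ?_⟩⟩
  · obtain ⟨e⟩ := h
    rw [← index_congr e]
    exact (show (MulAut.conj : Spor.McL →* MulAut Spor.McL).range.index = 2 from S2073.result).le
  · have h1 := hs ((mem_mcl h (d := 770)).2 (by decide))
    exact absurd ((mem_aut_mcl h).1 h1) (by decide)
  · have h1 := hs ((mem_aut_mcl h (d := 1540)).2 (by decide))
    exact absurd ((mem_mcl h).1 h1) (by decide)

/-- the members of the two degree sets -/
theorem mem_of_deg {X : Type u} [Group X] (h : Spor.IsoMcL X) {D : Set ℕ} (hD : H704.S8.Deg 2 X D) :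
    (∀ d, d ∈ D ↔ d ∈ dL) ∨ ∀ d, d ∈ D ↔ d ∈ dL2 := by
  have hX : Finite X := (TypeM.FactsMcL.facts h).1
  rcases hD with rfl | ⟨-, rfl⟩
  · exact Or.inl fun d => mem_mcl h
  · exact Or.inr fun d => mem_aut_mcl h

end Cfsg.Agent.H235.S8
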